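import Groth.Agent.RegLocus.GeomRedTrans
import Groth.Agent.GenFree.Algebra
import Groth.Agent.GenFlat.TFlat
import Groth.Agent.SmoothReduced.Basic
import Groth.Agent.PBasis.Separable
import Mathlib.RingTheory.Smooth.Locus
import Mathlib.RingTheory.Localization.BaseChange
import Mathlib.RingTheory.Algebraic.Integral
import Mathlib.RingTheory.Ideal.GoingUp
import Mathlib.RingTheory.Ideal.MinimalPrime.Noetherian

/-!
# Geometric reducedness of the fibres is constant on a stratum

For an algebra of finite type over any ring and a prime `J` there is `c ∉ J` such that on `V(J) ∩ D(c)`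
the fibre is geometrically reduced iff the fibre at `J` is.
-/

set_option autoImplicit false

universe u

open scoped TensorProduct nonZeroDivisors

namespace Groth.Agent.GeomRedStrata

theorem geomRed_congr {k A B : Type u} [Field k] [CommRing A] [CommRing B] [Algebra k A] [Algebra k B]
    (e : A ≃ₐ[k] B) [Algebra.IsGeometricallyReduced k A] : Algebra.IsGeometricallyReduced k B :=
  .of_injective e.symm.toAlgHom e.symm.injective

/-- Geometric reducedness is insensitive to field extensions. -/
theorem geomRed_baseChange_iff (k K A : Type u) [Field k] [Field K] [Algebra k K] [CommRing A] [Algebra k A] :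
    Algebra.IsGeometricallyReduced K (K ⊗[k] A) ↔ Algebra.IsGeometricallyReduced k A := by
  let e := Algebra.TensorProduct.cancelBaseChange k K K (AlgebraicClosure K) A
  constructor
  · intro h
    rw [Algebra.isGeometricallyReduced_field_iff] at h ⊢
    let φ : AlgebraicClosure k →ₐ[k] AlgebraicClosure K := IsAlgClosed.lift
    have : IsReduced (AlgebraicClosure K ⊗[k] A) := isReduced_of_injective e.symm.toAlgHom e.symm.injective
    exact isReduced_of_injective (Algebra.TensorProduct.map φ (AlgHom.id k A))
      (Module.Flat.rTensor_preserves_injective_linearMap _ φ.toRingHom.injective)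
  · intro h
    rw [Algebra.isGeometricallyReduced_field_iff]
    have := RegLocus.isReduced_tensor_field k A (AlgebraicClosure K)
    exact isReduced_of_injective e.toAlgHom e.injective

theorem geomRed_tensor_iff (R C : Type u) [CommRing R] [CommRing C] [Algebra R C] (k K : Type u)
    [Field k] [Field K] [Algebra R k] [Algebra R K] [Algebra k K] [IsScalarTower R k K] :
    Algebra.IsGeometricallyReduced K (K ⊗[R] C) ↔ Algebra.IsGeometricallyReduced k (k ⊗[R] C) := by
  rw [← geomRed_baseChange_iff k K (k ⊗[R] C)]
  let e := Algebra.TensorProduct.cancelBaseChange R k K K C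
  exact ⟨fun _ => geomRed_congr e.symm, fun _ => geomRed_congr e⟩

/-- Geometric reducedness of fibres is stable under base change and descends. -/
theorem geomRed_fiber_baseChange (R S C : Type u) [CommRing R] [CommRing S] [CommRing C] [Algebra R S]
    [Algebra R C] (p : Ideal R) [p.IsPrime] (q : Ideal S) [q.IsPrime]
    (hpq : p = q.comap (algebraMap R S)) :
    Algebra.IsGeometricallyReduced q.ResidueField (q.Fiber (S ⊗[R] C)) ↔
      Algebra.IsGeometricallyReduced p.ResidueField (p.Fiber C) := by
  let : Algebra p.ResidueField q.ResidueField :=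
    (Ideal.ResidueField.map p q (algebraMap R S) hpq).toAlgebra
  have : IsScalarTower R p.ResidueField q.ResidueField := IsScalarTower.of_algebraMap_eq fun x => by
    rw [RingHom.algebraMap_toAlgebra, Ideal.ResidueField.map_algebraMap, ← IsScalarTower.algebraMap_apply]
  let e := Algebra.TensorProduct.cancelBaseChange R S q.ResidueField q.ResidueField C
  exact (show Algebra.IsGeometricallyReduced q.ResidueField (q.ResidueField ⊗[S] (S ⊗[R] C)) ↔
      Algebra.IsGeometricallyReduced q.ResidueField (q.ResidueField ⊗[R] C) from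
    ⟨fun _ => geomRed_congr e, fun _ => geomRed_congr e.symm⟩).trans
    (geomRed_tensor_iff R C p.ResidueField q.ResidueField)

/-- The base change of a localization is a localization. -/
theorem isLocalization_baseChange (R S : Type u) [CommRing R] [CommRing S] [Algebra R S]
    {A : Type u} [CommRing A] [Algebra R A] (M : Submonoid A) (B : Type u) [CommRing B] [Algebra R B]
    [Algebra A B] [IsScalarTower R A B] [IsLocalization M B] :
    let := (Algebra.TensorProduct.map (AlgHom.id S S) (IsScalarTower.toAlgHom R A B)).toRingHom.toAlgebra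
    IsLocalization (M.map (Algebra.TensorProduct.includeRight (R := R) (A := S))) (S ⊗[R] B) := by
  let := (Algebra.TensorProduct.map (AlgHom.id S S) (IsScalarTower.toAlgHom R A B)).toRingHom.toAlgebra
  have : IsScalarTower S (S ⊗[R] A) (S ⊗[R] B) :=
    .of_algebraMap_eq fun x => by simp [RingHom.algebraMap_toAlgebra]
  exact IsLocalization.tensorProduct_tensorProduct_right R S M B
    (by ext x; simp [RingHom.algebraMap_toAlgebra])

/-- Localizations of geometrically reduced algebras are geometrically reduced. -/
theorem geomRed_localization {k A : Type u} [Field k] [CommRing A] [Algebra k A]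
    [Algebra.IsGeometricallyReduced k A] (M : Submonoid A) (B : Type u) [CommRing B] [Algebra k B]
    [Algebra A B] [IsScalarTower k A B] [IsLocalization M B] : Algebra.IsGeometricallyReduced k B := by
  rw [Algebra.isGeometricallyReduced_field_iff]
  have hA := (Algebra.isGeometricallyReduced_field_iff k A).1 ‹_›
  let L := AlgebraicClosure k
  let := (Algebra.TensorProduct.map (AlgHom.id L L) (IsScalarTower.toAlgHom k A B)).toRingHom.toAlgebra
  have := isLocalization_baseChange k L M B
  exact isReduced_localizationPreserves (M.map (Algebra.TensorProduct.includeRight (R := k) (A := L))) _ hA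

/-- Smooth algebras over fields are geometrically reduced. -/
theorem geomRed_of_smooth (k B : Type u) [Field k] [CommRing B] [Algebra k B] [Algebra.Smooth k B] :
    Algebra.IsGeometricallyReduced k B := by
  rw [Algebra.isGeometricallyReduced_field_iff]
  exact SmoothReduced.isReduced_of_smooth (AlgebraicClosure k) (AlgebraicClosure k ⊗[k] B)

theorem tflat_of_flat_localizedModule {R : Type u} [CommRing R] {M : Type u} [AddCommGroup M] [Module R M]
    (c : R) [Module.Flat R (LocalizedModule.Away c M)] : GenFlat.TFlat c M := by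
  intro N _ _ N' _ _ f hf x hx
  let S := Submonoid.powers c
  let fN := LocalizedModule.mkLinearMap S N
  let fN' := LocalizedModule.mkLinearMap S N'
  let fM := LocalizedModule.mkLinearMap S M
  let fS : LocalizedModule S N →ₗ[R] LocalizedModule S N' := IsLocalizedModule.map S fN fN' f
  have hfS : Function.Injective fS := IsLocalizedModule.map_injective S fN fN' f hf
  have h0 : TensorProduct.map fM fN x = 0 := by
    apply Module.Flat.lTensor_preserves_injective_linearMap (M := LocalizedModule.Away c M) fS hfS
    rw [map_zero]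
    have hcomp : (fS.lTensor (LocalizedModule.Away c M)).comp (TensorProduct.map fM fN) =
        (TensorProduct.map fM fN').comp (f.lTensor M) := by
      ext t m
      simp [fS]
    refine (LinearMap.congr_fun hcomp x).trans ?_
    rw [LinearMap.comp_apply, hx, map_zero]
  obtain ⟨⟨s, hs⟩, hsx⟩ := (IsLocalizedModule.eq_zero_iff S (TensorProduct.map fM fN)).1 h0
  obtain ⟨k, rfl⟩ := hs
  exact ⟨k, hsx⟩

/-- A free algebra of finite presentation over a domain with geometrically reduced generic fibre has
geometrically reduced fibres near the generic point. -/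
theorem exists_pos (R : Type u) [CommRing R] [IsDomain R] (C : Type u) [CommRing C] [Algebra R C]
    [Algebra.FinitePresentation R C] [Module.Free R C]
    (h : Algebra.IsGeometricallyReduced (FractionRing R) (FractionRing R ⊗[R] C)) :
    ∃ c : R, c ≠ 0 ∧ ∀ (p : Ideal R) [p.IsPrime], c ∉ p →
      Algebra.IsGeometricallyReduced p.ResidueField (p.Fiber C) := by
  classical
  let K := FractionRing R
  let S₀ : Submonoid C := Algebra.algebraMapSubmonoid C R⁰
  let F := Localization S₀
  let eF : K ⊗[R] C ≃ₐ[K] F := Localization.tensorRightAlgEquiv R⁰ C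
  have hGR : Algebra.IsGeometricallyReduced K F := geomRed_congr eF
  have : Algebra.FiniteType K F := (inferInstance : Algebra.FiniteType K (K ⊗[R] C)).equiv eF
  have : IsNoetherianRing F := Algebra.FiniteType.isNoetherianRing K F
  have : IsReduced F := Algebra.isReduced_of_isGeometricallyReduced K
  have hinj : Function.Injective (algebraMap C F) := IsLocalization.injective F (M := S₀) <| by
    rintro _ ⟨r, hr, rfl⟩
    refine mem_nonZeroDivisors_iff_right.2 fun y hy => ?_
    rw [mul_comm, ← Algebra.smul_def] at hy
    exact (smul_eq_zero.1 hy).resolve_left (nonZeroDivisors.ne_zero hr)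
  obtain ⟨Ps, hPs⟩ : ∃ Ps : Finset (Ideal F), ↑Ps = minimalPrimes F :=
    ⟨(minimalPrimes.finite_of_isNoetherianRing F).toFinset, Set.Finite.coe_toFinset _⟩
  have hmem : ∀ P ∈ Ps, P ∈ minimalPrimes F := fun P hP => hPs ▸ hP
  have hsm : ∀ P ∈ Ps, ∀ hP : (P.comap (algebraMap C F)).IsPrime,
      (⟨P.comap (algebraMap C F), hP⟩ : PrimeSpectrum C) ∈ Algebra.smoothLocus R C := by
    intro P hP hQ
    have : P.IsPrime := (hmem P hP).isPrime
    let L := Localization.AtPrime P
    have : IsLocalization.AtPrime L (P.comap (algebraMap C F)) :=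
      IsLocalization.isLocalization_isLocalization_atPrime_isLocalization S₀ _ P
    have hfield : IsField L := by
      have : Ring.KrullDimLE 0 L := .of_isLocalization _ (hmem P hP) _
      exact Ring.KrullDimLE.isField_of_isReduced
    let : Field L := hfield.toField
    have : Algebra.IsGeometricallyReduced K L := geomRed_localization (A := F) P.primeCompl L
    have : Algebra.FormallySmooth K L := PBasis.formallySmooth_iff_isGeometricallyReduced.2 ‹_›
    have : Algebra.FormallySmooth R K := Algebra.FormallySmooth.of_isLocalization R⁰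
    have hRL : Algebra.FormallySmooth R L := Algebra.FormallySmooth.comp R K L
    exact Algebra.FormallySmooth.of_equiv
      ((IsLocalization.algEquiv (P.comap (algebraMap C F)).primeCompl L _).restrictScalars R)
  obtain ⟨I, hI⟩ := (PrimeSpectrum.isClosed_iff_zeroLocus_ideal _).1
    (Algebra.isOpen_smoothLocus (R := R) (A := C)).isClosed_compl
  have hnot : ¬ (I : Set C) ⊆ ⋃ P ∈ (↑Ps : Set (Ideal F)), (P.comap (algebraMap C F) : Ideal C) := by
    rw [Ideal.subset_union_prime (⊥ : Ideal F) ⊥ (fun P hP _ _ => by
      have : P.IsPrime := (hmem P hP).isPrime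
      exact Ideal.IsPrime.comap _)]
    rintro ⟨P, hP, hle⟩
    have : P.IsPrime := (hmem P hP).isPrime
    have h1 : (⟨P.comap (algebraMap C F), inferInstance⟩ : PrimeSpectrum C) ∈ (Algebra.smoothLocus R C)ᶜ := by
      rw [hI]; exact hle
    exact h1 (hsm P hP _)
  obtain ⟨f, hfI, hf⟩ := Set.not_subset.1 hnot
  simp only [Set.mem_iUnion, not_exists, SetLike.mem_coe, Ideal.mem_comap] at hf
  have : Algebra.Smooth R (Localization.Away f) :=
    Algebra.basicOpen_subset_smoothLocus_iff_smooth.1 fun q hq => by
      by_contra hcon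
      have h1 : q ∈ (Algebra.smoothLocus R C)ᶜ := hcon
      rw [hI] at h1
      exact hq (h1 hfI)
  have hnzd : Function.Injective (LinearMap.lsmul C C f) := by
    rw [injective_iff_map_eq_zero]
    intro y hy
    refine hinj (Eq.trans ?_ (map_zero _).symm)
    have hy' : algebraMap C F f * algebraMap C F y = 0 := by
      rw [← map_mul, show f * y = 0 from hy, map_zero]
    have hy'' : algebraMap C F y ∈ (⊥ : Ideal F).radical := by
      rw [← Ideal.sInf_minimalPrimes]
      refine Submodule.mem_sInf.2 fun P hP => ?_
      have hPp : Ideal.IsPrime P := Ideal.IsMinimalPrime.isPrime hP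
      exact ((hPp.mem_or_mem (hy' ▸ P.zero_mem)).resolve_left (hf P (Finset.mem_coe.1 (hPs.symm ▸ hP))))
    obtain ⟨n, hn⟩ := hy''
    exact IsReduced.eq_zero _ ⟨n, by simpa using hn⟩
  let u : C →ₗ[R] C := (LinearMap.lsmul C C f).restrictScalars R
  let M := C ⧸ Ideal.span {f}
  let v : C →ₗ[R] M := (Ideal.Quotient.mkₐ R (Ideal.span {f})).toLinearMap
  obtain ⟨c, -, hc, hfree, -⟩ := GenFree.exists_generic_freeness (R := R) C M one_ne_zero
  have : Module.Flat R (Localization.Away c) := IsLocalization.flat _ (Submonoid.powers c)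
  have : Module.Flat R (LocalizedModule.Away c M) := Module.Flat.trans R (Localization.Away c) _
  have hT : GenFlat.TFlat c M := tflat_of_flat_localizedModule c
  refine ⟨c, hc, fun p _ hcp => ?_⟩
  let k := p.ResidueField
  have hkf : ∀ x : k ⊗[R] C, ((1 : k) ⊗ₜ[R] f) * x = 0 → x = 0 := by
    intro x hx
    have hcomm : u.rTensor k (TensorProduct.comm R k C x) =
        TensorProduct.comm R k C (((1 : k) ⊗ₜ[R] f) * x) := by
      clear hx
      induction x with
      | zero => simp
      | add a b ha hb => rw [map_add, map_add, ha, hb, mul_add, map_add]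
      | tmul a b => simp [u]
    have hex : Function.Exact u v := fun y => by
      show Ideal.Quotient.mk (Ideal.span {f}) y = 0 ↔ _
      rw [Ideal.Quotient.eq_zero_iff_mem, Ideal.mem_span_singleton']
      exact exists_congr fun a => by simp [u, mul_comm]
    obtain ⟨n, hn⟩ := hT.rTensor_kernel (u := u) (v := v) hnzd hex Ideal.Quotient.mk_surjective
      (TensorProduct.comm R k C x) (by rw [hcomm, hx, map_zero])
    rw [← map_smul, LinearEquiv.map_eq_zero_iff, ← algebraMap_smul k (c ^ n)] at hn
    refine (smul_eq_zero.1 hn).resolve_left ?_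
    rw [map_pow]
    exact pow_ne_zero _ fun h0 => hcp (Ideal.algebraMap_residueField_eq_zero.1 h0)
  let φ : k ⊗[R] C →ₐ[k] k ⊗[R] Localization.Away f :=
    Algebra.TensorProduct.map (AlgHom.id k k) (IsScalarTower.toAlgHom R C (Localization.Away f))
  let := φ.toRingHom.toAlgebra
  have := isLocalization_baseChange R k (Submonoid.powers f) (Localization.Away f)
  have hφ : Function.Injective φ := IsLocalization.injective (k ⊗[R] Localization.Away f)
      (M := (Submonoid.powers f).map (Algebra.TensorProduct.includeRight (R := R) (A := k))) <| by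
    rintro _ ⟨_, ⟨n, rfl⟩, rfl⟩
    show Algebra.TensorProduct.includeRight (f ^ n) ∈ _
    rw [map_pow]
    exact pow_mem (mem_nonZeroDivisors_iff_right.2 fun y hy => hkf y (by rw [mul_comm]; exact hy)) n
  have := geomRed_of_smooth k (k ⊗[R] Localization.Away f)
  exact Algebra.IsGeometricallyReduced.of_injective φ hφ

/-- A free algebra over a domain with generic fibre not geometrically reduced has no geometrically
reduced fibre near the generic point. -/
theorem exists_neg (R : Type u) [CommRing R] [IsDomain R] (C : Type u) [CommRing C] [Algebra R C]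
    [Module.Free R C] (h : ¬ Algebra.IsGeometricallyReduced (FractionRing R) (FractionRing R ⊗[R] C)) :
    ∃ c : R, c ≠ 0 ∧ ∀ (p : Ideal R) [p.IsPrime], c ∉ p →
      ¬ Algebra.IsGeometricallyReduced p.ResidueField (p.Fiber C) := by
  classical
  let K := FractionRing R
  let L := AlgebraicClosure K
  rw [Algebra.isGeometricallyReduced_field_iff] at h
  let e := Algebra.TensorProduct.cancelBaseChange R K K L C
  replace h : ¬ IsReduced (L ⊗[R] C) := fun _ => h (isReduced_of_injective e.toAlgHom e.injective)
  obtain ⟨z, hz, hz0⟩ : ∃ z : L ⊗[R] C, IsNilpotent z ∧ z ≠ 0 := by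
    by_contra hcon
    push Not at hcon
    exact h ⟨hcon⟩
  have : Algebra.IsAlgebraic R L := (IsFractionRing.comap_isAlgebraic_iff (A := R) (K := K) (C := L)).mpr inferInstance
  have hinjL : Function.Injective (algebraMap R L) := by
    rw [IsScalarTower.algebraMap_eq R K L]
    exact (algebraMap K L).injective.comp (IsFractionRing.injective R K)
  let b := Module.Free.chooseBasis R C
  let bL := Algebra.TensorProduct.basis L b
  let s := (bL.repr z).support
  choose y hy0 hyint using fun i => (Algebra.IsAlgebraic.isAlgebraic (R := R) (bL.repr z i)).exists_integral_multiple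
  let Y : R := ∏ i ∈ s, y i
  have hY : Y ≠ 0 := Finset.prod_ne_zero_iff.2 fun i _ => hy0 i
  let z' := algebraMap R L Y • z
  have hz' : IsNilpotent z' := hz.smul _
  have hz'0 : z' ≠ 0 := smul_ne_zero (fun h0 => hY (hinjL (h0.trans (map_zero _).symm))) hz0
  let R' := integralClosure R L
  have hint : ∀ i, bL.repr z' i ∈ R' := fun i => by
    have he : bL.repr z' i = Y • bL.repr z i := by
      simp only [z', map_smul, Finsupp.smul_apply]
      exact algebraMap_smul L Y (bL.repr z i)
    rw [he]
    by_cases hi : i ∈ s
    · rw [show Y = (∏ j ∈ s.erase i, y j) * y i from (Finset.prod_erase_mul s y hi).symm, mul_smul]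
      exact IsIntegral.smul _ (hyint i)
    · rw [Finsupp.notMem_support_iff.1 hi, smul_zero]
      exact zero_mem _
  let bR' := Algebra.TensorProduct.basis R' b
  let j : R' ⊗[R] C →ₐ[R] L ⊗[R] C := Algebra.TensorProduct.map R'.val (AlgHom.id R C)
  have hj : Function.Injective j :=
    Module.Flat.rTensor_preserves_injective_linearMap R'.val.toLinearMap Subtype.val_injective
  let w : R' ⊗[R] C := ∑ i ∈ (bL.repr z').support, (⟨bL.repr z' i, hint i⟩ : R') ⊗ₜ[R] b i
  have hjw : j w = z' := by
    refine Eq.trans ?_ (bL.linearCombination_repr z')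
    rw [map_sum, Finsupp.linearCombination_apply, Finsupp.sum]
    refine Finset.sum_congr rfl fun i _ => ?_
    simp [j, bL, TensorProduct.smul_tmul']
  have hw : IsNilpotent w := by
    obtain ⟨n, hn⟩ := hz'
    exact ⟨n, hj (by rw [map_pow, hjw, hn, map_zero])⟩
  obtain ⟨i₀, hi₀⟩ : ∃ i, bR'.repr w i ≠ 0 := by
    by_contra hcon
    push Not at hcon
    refine hz'0 ?_
    rw [← hjw, show w = 0 from bR'.repr.injective (by ext i; simp [hcon i]), map_zero]
  obtain ⟨c, hc, a, ha⟩ := (Algebra.IsAlgebraic.isAlgebraic (R := R) (bR'.repr w i₀)).exists_nonzero_dvd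
    (mem_nonZeroDivisors_of_ne_zero hi₀)
  refine ⟨c, hc, fun p _ hcp hGR => ?_⟩
  obtain ⟨q, -, hq, hqp⟩ := Ideal.exists_ideal_over_prime_of_isIntegral p (⊥ : Ideal R') (by
    intro x hx
    have h0 : (algebraMap R R' x : L) = 0 := by
      rw [show algebraMap R R' x = 0 from hx]; rfl
    have : x = 0 := hinjL (h0.trans (map_zero _).symm)
    rw [this]; exact zero_mem _)
  let k := q.ResidueField
  let : Algebra p.ResidueField k := (Ideal.ResidueField.map p q (algebraMap R R') hqp.symm).toAlgebra
  have : IsScalarTower R p.ResidueField k := IsScalarTower.of_algebraMap_eq fun x => by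
    rw [RingHom.algebraMap_toAlgebra, Ideal.ResidueField.map_algebraMap, ← IsScalarTower.algebraMap_apply]
  have := RegLocus.isReduced_tensor_field p.ResidueField (p.Fiber C) k
  let e' := Algebra.TensorProduct.cancelBaseChange R p.ResidueField k k C
  have : IsReduced (k ⊗[R] C) := isReduced_of_injective e'.symm.toAlgHom e'.symm.injective
  let g : R' ⊗[R] C →ₐ[R] k ⊗[R] C :=
    Algebra.TensorProduct.map (IsScalarTower.toAlgHom R R' k) (AlgHom.id R C)
  have hg0 : g w = 0 := (hw.map g).eq_zero
  have hrep : ∀ x : R' ⊗[R] C,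
      (Algebra.TensorProduct.basis k b).repr (g x) i₀ = algebraMap R' k (bR'.repr x i₀) := by
    intro x
    induction x with
    | zero => simp
    | add x₁ x₂ h1 h2 => simp [h1, h2]
    | tmul x₁ x₂ => simp [g, bR', Algebra.smul_def, ← IsScalarTower.algebraMap_apply]
  have h1 : algebraMap R' k (bR'.repr w i₀) = 0 := by rw [← hrep, hg0]; simp
  rw [Ideal.algebraMap_residueField_eq_zero] at h1
  apply hcp
  rw [← hqp, Ideal.mem_comap, ha]
  exact q.mul_mem_right a h1

theorem geomRed_generic_iff (R : Type u) [CommRing R] [IsDomain R] (C : Type u) [CommRing C] [Algebra R C] :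
    Algebra.IsGeometricallyReduced (⊥ : Ideal R).ResidueField ((⊥ : Ideal R).Fiber C) ↔
      Algebra.IsGeometricallyReduced (FractionRing R) (FractionRing R ⊗[R] C) := by
  have hi : Function.Injective (algebraMap R (⊥ : Ideal R).ResidueField) :=
    (injective_iff_map_eq_zero _).2 fun x hx => Ideal.algebraMap_residueField_eq_zero.1 hx
  have : FaithfulSMul R (⊥ : Ideal R).ResidueField := (faithfulSMul_iff_algebraMap_injective R _).2 hi
  let : Algebra (FractionRing R) (⊥ : Ideal R).ResidueField := FractionRing.liftAlgebra R _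
  exact geomRed_tensor_iff R C (FractionRing R) (⊥ : Ideal R).ResidueField

/-- The generic stratum over a domain. -/
theorem exists_const_domain (R : Type u) [CommRing R] [IsDomain R] (C : Type u) [CommRing C] [Algebra R C]
    [Algebra.FinitePresentation R C] [Module.Free R C] :
    ∃ c : R, c ≠ 0 ∧ ∀ (p : Ideal R) [p.IsPrime], c ∉ p →
      (Algebra.IsGeometricallyReduced p.ResidueField (p.Fiber C) ↔
        Algebra.IsGeometricallyReduced (⊥ : Ideal R).ResidueField ((⊥ : Ideal R).Fiber C)) := by
  by_cases h : Algebra.IsGeometricallyReduced (FractionRing R) (FractionRing R ⊗[R] C)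
  · obtain ⟨c, hc, hp⟩ := exists_pos R C h
    exact ⟨c, hc, fun p _ hcp => iff_of_true (hp p hcp) ((geomRed_generic_iff R C).2 h)⟩
  · obtain ⟨c, hc, hp⟩ := exists_neg R C h
    exact ⟨c, hc, fun p _ hcp => iff_of_false (hp p hcp) fun h' => h ((geomRed_generic_iff R C).1 h')⟩

/-- Geometric reducedness of fibres is constant on a stratum. -/
theorem exists_const_geomRed (R : Type u) [CommRing R] (C : Type u) [CommRing C] [Algebra R C]
    [Algebra.FiniteType R C] (J : Ideal R) [J.IsPrime] :
    ∃ c, c ∉ J ∧ ∀ (p : Ideal R) [p.IsPrime], J ≤ p → c ∉ p →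
      (Algebra.IsGeometricallyReduced p.ResidueField (p.Fiber C) ↔
        Algebra.IsGeometricallyReduced J.ResidueField (J.Fiber C)) := by
  let R₀ := R ⧸ J
  let C₀ := R₀ ⊗[R] C
  obtain ⟨f, -, hf, -, hfree, hfp, -⟩ :=
    GenFree.exists_generic_freeness (R := R₀) C₀ C₀ (one_ne_zero : (1 : R₀) ≠ 0)
  let R₁ := Localization.Away f
  let C₁ := R₁ ⊗[R₀] C₀
  have hle : Submonoid.powers f ≤ R₀⁰ := powers_le_nonZeroDivisors_of_noZeroDivisors hf
  have : IsDomain R₁ := IsLocalization.isDomain_localization hle
  have : Module.Free R₁ C₁ := Module.Free.of_equiv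
    (LocalizedModule.equivTensorProduct (Submonoid.powers f) C₀)
  obtain ⟨c₁, hc₁, hconst⟩ := exists_const_domain R₁ C₁
  obtain ⟨⟨r, ⟨_, n, rfl⟩⟩, hr⟩ := IsLocalization.surj (Submonoid.powers f) c₁
  obtain ⟨r, rfl⟩ := Ideal.Quotient.mk_surjective r
  obtain ⟨f, rfl⟩ := Ideal.Quotient.mk_surjective f
  refine ⟨f * r, fun hmem => ?_, fun p _ hJp hcp => ?_⟩
  · rcases (Ideal.IsPrime.mem_or_mem inferInstance hmem) with h | h
    · exact hf (Ideal.Quotient.eq_zero_iff_mem.2 h)
    · rw [Ideal.Quotient.eq_zero_iff_mem.2 h, map_zero] at hr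
      exact hc₁ ((IsLocalization.map_units R₁ _).mul_left_eq_zero.1 hr)
  let p₀ := p.map (Ideal.Quotient.mk J)
  have hp₀' : p₀.comap (Ideal.Quotient.mk J) = p := by
    rw [Ideal.comap_map_of_surjective _ Ideal.Quotient.mk_surjective, ← RingHom.ker_eq_comap_bot,
      Ideal.mk_ker, sup_eq_left.2 hJp]
  have hmem₀ : ∀ x, Ideal.Quotient.mk J x ∈ p₀ ↔ x ∈ p := fun x => by rw [← Ideal.mem_comap, hp₀']
  have : p₀.IsPrime := Ideal.map_isPrime_of_surjective Ideal.Quotient.mk_surjective (by rwa [Ideal.mk_ker])
  have hdisj : Disjoint (Submonoid.powers (Ideal.Quotient.mk J f) : Set R₀) (p₀ : Set R₀) := by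
    rw [Set.disjoint_left]
    rintro _ ⟨m, rfl⟩ hm
    exact hcp (p.mul_mem_right r ((hmem₀ f).1 (Ideal.IsPrime.mem_of_pow_mem inferInstance m hm)))
  let p₁ := p₀.map (algebraMap R₀ R₁)
  have hp₁ : p₁.IsPrime := IsLocalization.isPrime_of_isPrime_disjoint _ R₁ p₀ inferInstance hdisj
  have hp₁' : p₁.comap (algebraMap R₀ R₁) = p₀ :=
    IsLocalization.under_map_of_isPrime_disjoint _ R₁ (I := p₀) inferInstance hdisj
  have hc₁p : c₁ ∉ p₁ := fun h => by
    refine hcp (p.mul_mem_left f ((hmem₀ r).1 ?_))
    rw [← hp₁', Ideal.mem_comap, ← hr]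
    exact p₁.mul_mem_right _ h
  have hb₁ : (⊥ : Ideal R₁).comap (algebraMap R₀ R₁) = ⊥ :=
    Ideal.comap_bot_of_injective _ (IsLocalization.injective R₁ hle)
  have key := hconst p₁ hc₁p
  rw [geomRed_fiber_baseChange R₀ R₁ C₀ p₀ p₁ hp₁'.symm,
    geomRed_fiber_baseChange R₀ R₁ C₀ (⊥ : Ideal R₀) (⊥ : Ideal R₁) hb₁.symm,
    geomRed_fiber_baseChange R R₀ C p p₀ hp₀'.symm,
    geomRed_fiber_baseChange R R₀ C J (⊥ : Ideal R₀)
      (by rw [← RingHom.ker_eq_comap_bot]; exact Ideal.mk_ker.symm)] at key
  exact key

end Groth.Agent.GeomRedStrata
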