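import Groth.Agent.GeomRedStrata.Basic
import Groth.Agent.FibreDimStrata.Stage
import Groth.Agent.FlatMorLib.GeomDescent
import Groth.Agent.FlatMorLib.Approx
import Groth.Agent.ConstrSets.Basic
import Mathlib.AlgebraicGeometry.Fiber
import Mathlib.AlgebraicGeometry.Morphisms.FinitePresentation

/-!
# The locus of geometrically reduced fibres

Constructibility, behaviour near a generic point, and descent to a finitely generated base.
-/

set_option autoImplicit false

universe u

open CategoryTheory CategoryTheory.Limits AlgebraicGeometry Topology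
open scoped TensorProduct

namespace Groth.Agent.GeomRedStrata

/-- A condition on a noetherian spectrum which is constant on strata is constructible. -/
theorem isConstructible_of_strata {R : Type u} [CommRing R] [IsNoetherianRing R] (Φ : PrimeSpectrum R → Prop)
    (hgen : ∀ J : PrimeSpectrum R, ∃ c ∉ J.asIdeal, ∀ p : PrimeSpectrum R,
      J.asIdeal ≤ p.asIdeal → c ∉ p.asIdeal → (Φ p ↔ Φ J)) :
    IsConstructible {p | Φ p} := by
  classical
  suffices h : ∀ J : Ideal R, IsConstructible ({p | Φ p} ∩ PrimeSpectrum.zeroLocus (J : Set R)) by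
    simpa using h ⊥
  intro J
  induction J using WellFoundedGT.induction with
  | _ J ih =>
  by_cases htop : J = ⊤
  · simp [htop]
  by_cases hJ : J.IsPrime
  · obtain ⟨c, hc, hconst⟩ := hgen ⟨J, hJ⟩
    have h2 := ih (J ⊔ Ideal.span {c}) (lt_of_le_of_ne le_sup_left fun h =>
      hc (h.ge (Ideal.mem_sup_right (Ideal.mem_span_singleton_self c))))
    have h1 : IsConstructible (PrimeSpectrum.zeroLocus (J : Set R) \ PrimeSpectrum.zeroLocus {c}) :=
      (ConstrSets.isConstructible_of_isClosed (PrimeSpectrum.isClosed_zeroLocus _)).sdiff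
        (ConstrSets.isConstructible_of_isClosed (PrimeSpectrum.isClosed_zeroLocus _))
    have heq : ({p | Φ p} ∩ PrimeSpectrum.zeroLocus (J : Set R) : Set (PrimeSpectrum R)) =
        (if Φ ⟨J, hJ⟩ then PrimeSpectrum.zeroLocus (J : Set R) \ PrimeSpectrum.zeroLocus {c} else ∅) ∪
          ({p | Φ p} ∩ PrimeSpectrum.zeroLocus ((J ⊔ Ideal.span {c} : Ideal R) : Set R)) := by
      ext p
      by_cases hp : J ≤ p.asIdeal
      · by_cases hcp : c ∈ p.asIdeal
        · split_ifs <;> simp [PrimeSpectrum.mem_zeroLocus, hp, hcp, Ideal.span_singleton_le_iff_mem]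
        · have := hconst p hp hcp
          split_ifs with hΦ <;>
            simp [PrimeSpectrum.mem_zeroLocus, hp, hcp, Ideal.span_singleton_le_iff_mem, this, hΦ]
      · split_ifs <;> simp [PrimeSpectrum.mem_zeroLocus, hp]
    rw [heq]
    refine IsConstructible.union ?_ h2
    split_ifs
    exacts [h1, .empty]
  · obtain ⟨a, b, ha, hb, hab⟩ : ∃ a b, a ∉ J ∧ b ∉ J ∧ a * b ∈ J := by
      by_contra! h
      exact hJ ⟨htop, fun {x y} hxy => or_iff_not_imp_left.2 fun hx =>
        by_contra fun hy => h x y hx hy hxy⟩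
    have hA := ih (J ⊔ Ideal.span {a}) (lt_of_le_of_ne le_sup_left fun h =>
      ha (h ▸ Ideal.mem_sup_right (Ideal.mem_span_singleton_self a)))
    have hB := ih (J ⊔ Ideal.span {b}) (lt_of_le_of_ne le_sup_left fun h =>
      hb (h ▸ Ideal.mem_sup_right (Ideal.mem_span_singleton_self b)))
    convert hA.union hB using 1
    ext p
    have := fun h : J ≤ p.asIdeal => p.isPrime.mem_or_mem (h hab)
    simp [PrimeSpectrum.mem_zeroLocus, Ideal.span_singleton_le_iff_mem]
    tauto

variable {X Y : Scheme.{u}}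

/-- Geometric reducedness is local on the source. -/
theorem geometricallyReduced_iff_cover (f : X ⟶ Y) (𝒰 : X.OpenCover) :
    GeometricallyReduced f ↔ ∀ i, GeometricallyReduced (𝒰.f i ≫ f) := by
  constructor
  · intro hf i
    refine ⟨fun K _ y Z fst snd h => ?_⟩
    have hred : AlgebraicGeometry.IsReduced (pullback f y) :=
      hf.geometrically_isReduced _ _ _ (.of_hasPullback _ _)
    have : AlgebraicGeometry.IsReduced (pullback (𝒰.f i ≫ f) y) :=
      @isReduced_of_isOpenImmersion _ _ ((Scheme.Pullback.openCoverOfLeft 𝒰 f y).f i)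
        ((Scheme.Pullback.openCoverOfLeft 𝒰 f y).map_prop i) hred
    exact isReduced_of_isOpenImmersion h.isoPullback.hom
  · intro H
    refine ⟨fun K _ y Z fst snd h => ?_⟩
    have : AlgebraicGeometry.IsReduced (pullback f y) := by
      apply +allowSynthFailures @IsReduced.of_openCover (𝒰 := Scheme.Pullback.openCoverOfLeft 𝒰 f y)
      exact fun i => (H i).geometrically_isReduced _ _ _ (.of_hasPullback _ _)
    exact isReduced_of_isOpenImmersion h.isoPullback.hom

/-- A fibre is geometrically reduced iff the fibres of the members of an open cover of the source are. -/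
theorem fiber_iff_cover (f : X ⟶ Y) (𝒰 : X.OpenCover) (y : Y) :
    GeometricallyReduced (f.fiberToSpecResidueField y) ↔
      ∀ i, GeometricallyReduced ((𝒰.f i ≫ f).fiberToSpecResidueField y) := by
  refine (geometricallyReduced_iff_cover (f.fiberToSpecResidueField y)
    (Scheme.Pullback.openCoverOfLeft 𝒰 f (Y.fromSpecResidueField y))).trans (forall_congr' fun i => ?_)
  have : (Scheme.Pullback.openCoverOfLeft 𝒰 f (Y.fromSpecResidueField y)).f i ≫ f.fiberToSpecResidueField y =
      (𝒰.f i ≫ f).fiberToSpecResidueField y := by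
    exact (pullback.lift_snd _ _ _).trans (Category.comp_id _)
  exact iff_of_eq (congrArg (fun φ => GeometricallyReduced φ) this)

/-- Over the spectrum of a field. -/
theorem geometricallyReduced_Spec_iff (k A : Type u) [Field k] [CommRing A] [Algebra k A] :
    GeometricallyReduced (Spec.map (CommRingCat.ofHom (algebraMap k A))) ↔
      Algebra.IsGeometricallyReduced k A := by
  rw [geometricallyReduced_iff, geometrically_iff_of_commRing]
  constructor
  · intro H
    rw [Algebra.isGeometricallyReduced_field_iff]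
    have := H _ _ (IsPullback.of_hasPullback (Spec.map (CommRingCat.ofHom (algebraMap k A)))
      (Spec.map (CommRingCat.ofHom (algebraMap k (AlgebraicClosure k)))))
    have : AlgebraicGeometry.IsReduced (Spec (.of (A ⊗[k] AlgebraicClosure k))) :=
      isReduced_of_isOpenImmersion (pullbackSpecIso k A (AlgebraicClosure k)).inv
    have : _root_.IsReduced (A ⊗[k] AlgebraicClosure k) :=
      (affine_isReduced_iff (.of (A ⊗[k] AlgebraicClosure k))).1 this
    exact isReduced_of_injective (Algebra.TensorProduct.comm k (AlgebraicClosure k) A).toAlgHom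
      (Algebra.TensorProduct.comm k (AlgebraicClosure k) A).injective
  · intro hA K _ _ Z fst snd h
    have := RegLocus.isReduced_tensor_field k A K
    have : _root_.IsReduced (A ⊗[k] K) :=
      isReduced_of_injective (Algebra.TensorProduct.comm k A K).toAlgHom
        (Algebra.TensorProduct.comm k A K).injective
    exact isReduced_of_isOpenImmersion (h.isoPullback.hom ≫ (pullbackSpecIso k A K).hom)

theorem fiber_spec_iff (R C : Type u) [CommRing R] [CommRing C] [Algebra R C] (p : PrimeSpectrum R) :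
    GeometricallyReduced ((Spec.map (CommRingCat.ofHom (algebraMap R C))).fiberToSpecResidueField p) ↔
      Algebra.IsGeometricallyReduced p.asIdeal.ResidueField (p.asIdeal.Fiber C) :=
  (MorphismProperty.arrow_mk_iso_iff @GeometricallyReduced (Spec.fiberToSpecResidueFieldIso R C p)).trans
    (geometricallyReduced_Spec_iff _ _)

theorem fiber_affine_iff (f : X ⟶ Y) [IsAffine X] [IsAffine Y] (p : PrimeSpectrum Γ(Y, ⊤)) :
    letI := f.appTop.hom.toAlgebra
    GeometricallyReduced (f.fiberToSpecResidueField (Y.isoSpec.inv p)) ↔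
      Algebra.IsGeometricallyReduced p.asIdeal.ResidueField (p.asIdeal.Fiber Γ(X, ⊤)) := by
  let := f.appTop.hom.toAlgebra
  have sq : IsPullback X.isoSpec.inv (Spec.map f.appTop) f Y.isoSpec.inv :=
    IsPullback.of_horiz_isIso ⟨(Scheme.isoSpec_inv_naturality f).symm⟩
  exact (FlatMorLib.geometricallyReduced_fiber_iff sq p).symm.trans (fiber_spec_iff Γ(Y, ⊤) Γ(X, ⊤) p)

/-- For affine schemes, geometric reducedness of the fibres is constant near a point on its closure. -/
theorem exists_const_affine (f : X ⟶ Y) [IsAffine X] [IsAffine Y] [LocallyOfFiniteType f] (η : Y) :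
    ∃ V : Y.Opens, η ∈ V ∧ ∀ y ∈ V, η ⤳ y →
      (GeometricallyReduced (f.fiberToSpecResidueField y) ↔
        GeometricallyReduced (f.fiberToSpecResidueField η)) := by
  let := f.appTop.hom.toAlgebra
  have : Algebra.FiniteType Γ(Y, ⊤) Γ(X, ⊤) :=
    (HasRingHomProperty.iff_of_isAffine (P := @LocallyOfFiniteType)).1 ‹_›
  let J : PrimeSpectrum Γ(Y, ⊤) := Y.isoSpec.hom η
  obtain ⟨c, hc, h⟩ := exists_const_geomRed Γ(Y, ⊤) Γ(X, ⊤) J.asIdeal
  refine ⟨Y.isoSpec.hom ⁻¹ᵁ PrimeSpectrum.basicOpen c, hc, fun y hy hηy => ?_⟩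
  have e : ∀ z : Y, Y.isoSpec.inv (Y.isoSpec.hom z) = z := fun z => by
    rw [← Scheme.Hom.comp_apply, Iso.hom_inv_id]; rfl
  have hle : J.asIdeal ≤ (Y.isoSpec.hom y : PrimeSpectrum _).asIdeal :=
    (PrimeSpectrum.le_iff_specializes _ _).2 (hηy.map Y.isoSpec.hom.continuous)
  have key := h (Y.isoSpec.hom y : PrimeSpectrum _).asIdeal hle hy
  rw [← fiber_affine_iff f, ← fiber_affine_iff f, e, e] at key
  exact key

/-- For affine schemes, the locus of geometrically reduced fibres of a morphism of finite presentation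
is constructible. -/
theorem isConstructible_affine (f : X ⟶ Y) [IsAffine X] [IsAffine Y] [LocallyOfFinitePresentation f] :
    IsConstructible {y : Y | GeometricallyReduced (f.fiberToSpecResidueField y)} := by
  obtain ⟨X₀, S₀, f₀, g, g', _, _, hpb, hS₀, hf₀⟩ := FlatMorLib.Approx.exists_noetherian_model f
  have heq : {y : Y | GeometricallyReduced (f.fiberToSpecResidueField y)} =
      g ⁻¹' {s : S₀ | GeometricallyReduced (f₀.fiberToSpecResidueField s)} :=
    Set.ext fun y => FlatMorLib.geometricallyReduced_fiber_iff hpb y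
  rw [heq]
  apply Scheme.Hom.isConstructible_preimage
  let := f₀.appTop.hom.toAlgebra
  have : IsNoetherianRing Γ(S₀, ⊤) := Algebra.FiniteType.isNoetherianRing ℤ Γ(S₀, ⊤)
  have : Algebra.FiniteType Γ(S₀, ⊤) Γ(X₀, ⊤) :=
    (HasRingHomProperty.iff_of_isAffine (P := @LocallyOfFiniteType)).1 hf₀
  have h := isConstructible_of_strata
    (fun p : PrimeSpectrum Γ(S₀, ⊤) =>
      Algebra.IsGeometricallyReduced p.asIdeal.ResidueField (p.asIdeal.Fiber Γ(X₀, ⊤))) fun J => by
    obtain ⟨c, hc, h⟩ := exists_const_geomRed Γ(S₀, ⊤) Γ(X₀, ⊤) J.asIdeal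
    exact ⟨c, hc, fun p h1 h2 => h p.asIdeal h1 h2⟩
  have heq₀ : {s : S₀ | GeometricallyReduced (f₀.fiberToSpecResidueField s)} =
      S₀.isoSpec.hom ⁻¹' {p : PrimeSpectrum Γ(S₀, ⊤) |
        Algebra.IsGeometricallyReduced p.asIdeal.ResidueField (p.asIdeal.Fiber Γ(X₀, ⊤))} := by
    ext s
    simp only [Set.mem_preimage, Set.mem_setOf_eq]
    refine Iff.trans ?_ (fiber_affine_iff f₀ (S₀.isoSpec.hom s))
    rw [← Scheme.Hom.comp_apply, Iso.hom_inv_id]
    rfl
  rw [heq₀]
  exact Scheme.Hom.isConstructible_preimage _ h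

/-- Over an affine open of the target, the fibres are tested on finitely many affine pieces. -/
theorem exists_affine_pieces (f : X ⟶ Y) [QuasiCompact f] {U : Y.Opens} (hU : IsAffineOpen U) :
    ∃ (𝒰 : Scheme.OpenCover.{u} (f ⁻¹ᵁ U).toScheme), Finite 𝒰.I₀ ∧ (∀ i, IsAffine (𝒰.X i)) ∧ ∀ y : U.toScheme,
      (GeometricallyReduced (f.fiberToSpecResidueField (U.ι y)) ↔
        ∀ i, GeometricallyReduced ((𝒰.f i ≫ (f ∣_ U)).fiberToSpecResidueField y)) := by
  have hqc : IsCompact (f ⁻¹ᵁ U : Set X) := f.isCompact_preimage hU.isCompact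
  have : CompactSpace (f ⁻¹ᵁ U).toScheme := isCompact_iff_compactSpace.1 hqc
  refine ⟨(f ⁻¹ᵁ U).toScheme.affineCover.finiteSubcover, inferInstance, fun i => ?_, fun y => ?_⟩
  · infer_instance
  · exact (FlatMorLib.geometricallyReduced_fiber_iff (isPullback_morphismRestrict f U).flip y).symm.trans
      (fiber_iff_cover _ _ y)

/-- The locus of geometrically reduced fibres is locally constructible. -/
theorem isLocallyConstructible_geomRed (f : X ⟶ Y) [QuasiCompact f] [LocallyOfFinitePresentation f] :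
    IsLocallyConstructible {y : Y | GeometricallyReduced (f.fiberToSpecResidueField y)} := by
  intro y
  obtain ⟨(U : Y.Opens), hU, hy, -⟩ := TopologicalSpace.Opens.isBasis_iff_nbhd.mp Y.isBasis_affineOpens
    (show y ∈ (⊤ : Y.Opens) from trivial)
  refine ⟨U, U.2.mem_nhds hy, U.2, ?_⟩
  obtain ⟨𝒰, hfin, haff, h⟩ := exists_affine_pieces f hU
  have : IsAffine U.toScheme := hU
  have hall : IsConstructible (⋂ i, {y : U.toScheme |
      GeometricallyReduced ((𝒰.f i ≫ (f ∣_ U)).fiberToSpecResidueField y)}) :=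
    IsConstructible.iInter fun i => by
      have := haff i
      exact isConstructible_affine _
  have heq : (U.ι ⁻¹' {y : Y | GeometricallyReduced (f.fiberToSpecResidueField y)} : Set U.toScheme) =
      ⋂ i, {y : U.toScheme | GeometricallyReduced ((𝒰.f i ≫ (f ∣_ U)).fiberToSpecResidueField y)} :=
    Set.ext fun z => by rw [Set.mem_iInter]; exact h z
  rw [← heq] at hall
  exact hall

/-- Near the generic point of an irreducible target all fibres behave as the generic one. -/
theorem exists_open_generic (f : X ⟶ Y) [IrreducibleSpace Y] [QuasiCompact f] [LocallyOfFiniteType f] :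
    ∃ V : Y.Opens, (V : Set Y).Nonempty ∧ ∀ y ∈ V,
      (GeometricallyReduced (f.fiberToSpecResidueField y) ↔
        GeometricallyReduced (f.fiberToSpecResidueField (genericPoint Y))) := by
  obtain ⟨(U : Y.Opens), hU, hy, -⟩ := TopologicalSpace.Opens.isBasis_iff_nbhd.mp Y.isBasis_affineOpens
    (show genericPoint Y ∈ (⊤ : Y.Opens) from trivial)
  obtain ⟨𝒰, hfin, haff, h⟩ := exists_affine_pieces f hU
  have : IsAffine U.toScheme := hU
  let η : U.toScheme := ⟨genericPoint Y, hy⟩
  choose V hV hconst using fun i => exists_const_affine (X := 𝒰.X i) (𝒰.f i ≫ (f ∣_ U)) η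
  have := Fintype.ofFinite 𝒰.I₀
  let W : U.toScheme.Opens := Finset.univ.inf V
  have hηW : η ∈ W := by
    rw [← SetLike.mem_coe, TopologicalSpace.Opens.coe_finset_inf]
    simp [hV]
  refine ⟨U.ι ''ᵁ W, ⟨genericPoint Y, η, hηW, rfl⟩, ?_⟩
  rintro _ ⟨y, hyW, rfl⟩
  have hsp : η ⤳ y := by
    rw [U.ι.isOpenEmbedding.isInducing.specializes_iff.symm]
    exact genericPoint_specializes _
  have hyV : ∀ i, y ∈ V i := fun i =>
    (Finset.inf_le (f := V) (Finset.mem_univ i)) hyW
  exact (h y).trans ((forall_congr' fun i => hconst i y (hyV i) hsp).trans (h η).symm)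

/-- Descent of geometric reducedness of the fibres to a finitely generated base. -/
theorem exists_model_geomRed {S : Scheme.{u}} (f : X ⟶ S) [IsAffine S] [GeometricallyReduced f]
    {X₀ S₀ : Scheme.{u}} (f₀ : X₀ ⟶ S₀) [IsAffine X₀] [IsAffine S₀] [LocallyOfFiniteType f₀]
    (g : S ⟶ S₀) (g' : X ⟶ X₀) (hpb : IsPullback g' f f₀ g) (hS₀ : Algebra.FiniteType ℤ Γ(S₀, ⊤)) :
    ∃ (X₁ S₁ : Scheme.{u}) (f₁ : X₁ ⟶ S₁) (k : S ⟶ S₁) (k' : X ⟶ X₁), IsAffine X₁ ∧ IsAffine S₁ ∧
      IsPullback k' f f₁ k ∧ Algebra.FiniteType ℤ Γ(S₁, ⊤) ∧ LocallyOfFiniteType f₁ ∧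
      GeometricallyReduced f₁ := by
  classical
  let R : CommRingCat.{u} := Γ(S₀, ⊤)
  let C : CommRingCat.{u} := Γ(X₀, ⊤)
  let A : CommRingCat.{u} := Γ(S, ⊤)
  let : Algebra R C := f₀.appTop.hom.toAlgebra
  let : Algebra R A := g.appTop.hom.toAlgebra
  have : IsNoetherianRing R := Algebra.FiniteType.isNoetherianRing ℤ R
  have hC : Algebra.FiniteType R C := (HasRingHomProperty.iff_of_isAffine (P := @LocallyOfFiniteType)).1 ‹_›
  obtain ⟨s, hs⟩ := FibreDimStrata.exists_stage A
    (fun p : PrimeSpectrum R => Algebra.IsGeometricallyReduced p.asIdeal.ResidueField (p.asIdeal.Fiber C))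
    (fun J => by
      obtain ⟨c, hc, hcJ⟩ := exists_const_geomRed R C J.asIdeal
      exact ⟨c, hc, fun p h1 h2 => hcJ p.asIdeal h1 h2⟩)
    (fun P => by
      refine (fiber_affine_iff f₀ _).1 ?_
      have e : S₀.isoSpec.inv (P.comap (algebraMap R A)) = g (S.isoSpec.inv P) := by
        have := congr($(Scheme.isoSpec_inv_naturality g) P)
        simp only [Scheme.Hom.comp_apply] at this
        exact this
      rw [e, ← FlatMorLib.geometricallyReduced_fiber_iff hpb]
      infer_instance)
  let B := Algebra.adjoin R (s : Set A)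
  have hBfg : Algebra.FiniteType R B := Algebra.FiniteType.adjoin_of_finite s.finite_toSet
  let j : Spec (CommRingCat.of B) ⟶ S₀ :=
    Spec.map (CommRingCat.ofHom (algebraMap R B)) ≫ S₀.isoSpec.inv
  let k : S ⟶ Spec (CommRingCat.of B) :=
    S.isoSpec.hom ≫ Spec.map (CommRingCat.ofHom B.val.toRingHom)
  have hkj : k ≫ j = g := by
    show (S.isoSpec.hom ≫ _) ≫ _ ≫ _ = g
    rw [Category.assoc, ← Category.assoc (Spec.map _), ← Spec.map_comp,
      show CommRingCat.ofHom (algebraMap R B) ≫ CommRingCat.ofHom B.val.toRingHom = g.appTop from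
        CommRingCat.hom_ext (RingHom.ext fun x => rfl), Scheme.isoSpec_inv_naturality,
      Iso.hom_inv_id_assoc]
  let f₁ := pullback.snd f₀ j
  let k' : X ⟶ pullback f₀ j := pullback.lift g' (f ≫ k) (by rw [Category.assoc, hkj]; exact hpb.w)
  have hpb₁ : IsPullback k' f f₁ k := IsPullback.of_right (h₁₂ := pullback.fst f₀ j)
    (by rw [pullback.lift_fst, hkj]; exact hpb) (pullback.lift_snd _ _ _)
    (IsPullback.of_hasPullback f₀ j)
  have : IsAffineHom f₁ := MorphismProperty.pullback_snd _ _ (inferInstance : IsAffineHom f₀)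
  have : IsAffine (pullback f₀ j) := isAffine_of_isAffineHom f₁
  have hlft : LocallyOfFiniteType f₁ := MorphismProperty.pullback_snd _ _ ‹LocallyOfFiniteType f₀›
  refine ⟨pullback f₀ j, Spec (CommRingCat.of B), f₁, k, k', inferInstance, inferInstance, hpb₁, ?_, hlft, ?_⟩
  · have : Algebra.FiniteType ℤ B := hS₀.trans hBfg
    exact this.equiv (Scheme.ΓSpecIso (.of B)).symm.commRingCatIsoToRingEquiv.toIntAlgEquiv
  · have hall : ∀ y, GeometricallyReduced (f₁.fiberToSpecResidueField y) := fun y => by
      rw [FlatMorLib.geometricallyReduced_fiber_iff (IsPullback.of_hasPullback f₀ j) y]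
      exact (fiber_affine_iff f₀ _).2 (hs B Algebra.subset_adjoin y)
    refine ⟨(geometrically_iff_forall_fiberToSpecResidueField).2 fun y => (hall y).geometrically_isReduced⟩

end Groth.Agent.GeomRedStrata
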